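import Groth.Prelude.Def_EtAcyc
import Groth.Agent.EtpbcB.HRel
import Groth.Agent.Etcore.Torsion

/-!
# Comparison conditions and composition of morphisms

* `isLTorsion_iff_stalk`, `isLTorsion_pull`: `L`-torsion sheaves, stalkwise; stability under inverse image.
* `compN_comp_iff`: if `f` satisfies `CompN L n` then `g` does iff `f ≫ g` does.
* `compN_of_isIso`: isomorphisms satisfy `CompN L n`.
-/

set_option autoImplicit false
universe u
open CategoryTheory CategoryTheory.Limits AlgebraicGeometry Opposite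

namespace Groth.Agent.Etbc.H231.AcycComp

variable {X Y Z : Scheme.{u}}

theorem isLTorsion_iff_stalk (L : Set ℕ) (F : EtCoh.Ab X) :
    EtAcyc.IsLTorsion L F ↔
      ∀ (Ω : Type u) [Field Ω] [IsSepClosed Ω] (ξ : Spec (CommRingCat.of Ω) ⟶ X)
      (t : (EtCoh.stalk ξ).obj F), ∃ n : ℕ, EtAcyc.PrimesIn L n ∧ n • t = 0 :=
  Groth.Agent.Etcore.Torsion.local_iff_stalk (fun n => EtAcyc.PrimesIn L n) F

theorem isLTorsion_pull (L : Set ℕ) (f : X ⟶ Y) (F : EtCoh.Ab Y) (hF : EtAcyc.IsLTorsion L F) :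
    EtAcyc.IsLTorsion L ((EtCoh.pull f).obj F) := by
  rw [isLTorsion_iff_stalk] at hF ⊢
  exact Groth.Agent.Etcore.Torsion.stalk_prop_pull _ f F hF

theorem isLTorsion_of_iso (L : Set ℕ) {F G : EtCoh.Ab X} (e : F ≅ G) (hF : EtAcyc.IsLTorsion L F) :
    EtAcyc.IsLTorsion L G := by
  rw [isLTorsion_iff_stalk] at hF ⊢
  intro Ω _ _ ξ t
  let e' := ((EtCoh.stalk ξ).mapIso e).addCommGroupIsoToAddEquiv
  obtain ⟨n, hn, h0⟩ := hF Ω ξ (e'.symm t)
  refine ⟨n, hn, ?_⟩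
  rw [← map_nsmul] at h0
  exact (AddEquiv.map_eq_zero_iff _).1 h0

theorem bijective_HF_iso (f : X ⟶ Y) (t : Y ⟶ Z) (f₀ : X ⟶ Z) (w : f ≫ t = f₀)
    (G : EtCoh.Ab Z) (p : ℕ) :
    Function.Bijective ((EtCoh.HF X p).map
      (((EtCore.pullComp f t).symm ≪≫ EtCore.pullCongr w).app G).hom).hom :=
  ConcreteCategory.bijective_of_isIso ((EtCoh.HF X p).map
    (((EtCore.pullComp f t).symm ≪≫ EtCore.pullCongr w).app G).hom)

theorem HpullVia_bijective_iff (f : X ⟶ Y) (t : Y ⟶ Z) (f₀ : X ⟶ Z) (w : f ≫ t = f₀)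
    [PreservesFiniteLimits (EtCoh.pull f)] (G : EtCoh.Ab Z) (p : ℕ) :
    Function.Bijective (EtCore.HpullVia f t f₀ w G p) ↔
      Function.Bijective (EtCore.Hpull f ((EtCoh.pull t).obj G) p) :=
  Function.Bijective.of_comp_iff' (bijective_HF_iso f t f₀ w G p) _

theorem HpullVia_injective_iff (f : X ⟶ Y) (t : Y ⟶ Z) (f₀ : X ⟶ Z) (w : f ≫ t = f₀)
    [PreservesFiniteLimits (EtCoh.pull f)] (G : EtCoh.Ab Z) (p : ℕ) :
    Function.Injective (EtCore.HpullVia f t f₀ w G p) ↔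
      Function.Injective (EtCore.Hpull f ((EtCoh.pull t).obj G) p) :=
  (bijective_HF_iso f t f₀ w G p).1.of_comp_iff _

/-- If `f` satisfies the comparison condition, then `g` does if and only if the composite does. -/
theorem compN_comp_iff (f : X ⟶ Y) (g : Y ⟶ Z) (h : X ⟶ Z) (w : f ≫ g = h) (L : Set ℕ) (n : ℕ)
    (hf : EtAcyc.CompN f L n) : EtAcyc.CompN g L n ↔ EtAcyc.CompN h L n := by
  have key : ∀ (F : EtCoh.Ab Z) (q : ℕ), (EtCore.Hpull h F q : _ → _) =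
      (EtCore.HpullVia f g h w F q : _ → _) ∘ (EtCore.Hpull g F q : _ → _) := fun F q =>
    funext fun ξ => (EtpbcB.HRel.Hpull_comp f g h w F q ξ).symm
  constructor
  · intro hg F hF _
    have h1 := hf _ (isLTorsion_pull L g F hF)
    have h2 := hg F hF
    refine ⟨fun q hq => ?_, ?_⟩
    · have := key F q
      rw [this]
      exact ((HpullVia_bijective_iff f g h w F q).2 (h1.1 q hq)).comp (h2.1 q hq)
    · have := key F (n + 1)
      rw [this]
      exact ((HpullVia_injective_iff f g h w F (n + 1)).2 h1.2).comp h2.2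
  · intro hh F hF _
    have h1 := hf _ (isLTorsion_pull L g F hF)
    have h2 := hh F hF
    refine ⟨fun q hq => ?_, ?_⟩
    · have h3 := h2.1 q hq
      rw [key F q] at h3
      exact (Function.Bijective.of_comp_iff'
        ((HpullVia_bijective_iff f g h w F q).2 (h1.1 q hq)) _).1 h3
    · have h3 := h2.2
      rw [key F (n + 1)] at h3
      exact h3.of_comp

theorem compN_of_isIso (f : X ⟶ Y) [IsIso f] (L : Set ℕ) (n : ℕ) : EtAcyc.CompN f L n :=
  fun F _ _ => ⟨fun q _ => Etrest.IsoInv.bijective_Hpull f F q,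
    (Etrest.IsoInv.bijective_Hpull f F (n + 1)).1⟩

/-- The canonical isomorphism `X ×_Z W ≅ X ×_Y (Y ×_Z W)`. -/
noncomputable def bcE (g : X ⟶ Y) (h : Y ⟶ Z) (W : Z.Etale) :
    pullback W.hom (g ≫ h) ≅ pullback ((EtCoh.bc h).obj W).hom g :=
  (pullbackLeftPullbackSndIso W.hom h g).symm

theorem bcE_comp (g : X ⟶ Y) (h : Y ⟶ Z) (W : Z.Etale) :
    ((bcE g h W).hom ≫ EtAcyc.prj g ((EtCoh.bc h).obj W)) ≫
      (EtAcyc.prj h W : ((EtCoh.bc h).obj W).left ⟶ W.left) = EtAcyc.prj (g ≫ h) W :=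
  (Category.assoc _ _ _).trans (pullbackLeftPullbackSndIso_inv_fst W.hom h g)

theorem isAcyclicN_comp_iff (g : X ⟶ Y) (h : Y ⟶ Z) (L : Set ℕ) (n : ℕ)
    (hg : EtAcyc.IsAcyclicN g L n) : EtAcyc.IsAcyclicN h L n ↔ EtAcyc.IsAcyclicN (g ≫ h) L n := by
  refine forall_congr' fun W => ?_
  refine compN_comp_iff ((bcE g h W).hom ≫ EtAcyc.prj g ((EtCoh.bc h).obj W)) (EtAcyc.prj h W)
    (EtAcyc.prj (g ≫ h) W) (bcE_comp g h W) L n ?_
  exact (compN_comp_iff _ _ _ rfl L n (compN_of_isIso _ L n)).1 (hg _)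

end Groth.Agent.Etbc.H231.AcycComp
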