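import Mathlib.NumberTheory.Cyclotomic.Basic
import Mathlib.NumberTheory.Multiplicity
import Mathlib.FieldTheory.Galois.Infinite
import Mathlib.RingTheory.RootsOfUnity.PrimitiveRoots

/-!
# The cyclotomic `p`-tower is procyclic

`K` a field of characteristic zero containing a primitive `p`-th root of unity and `√-1`, `L = K(μ_{p^∞})`.
Either `L = K` or `L` is the union of a tower `E a` of cyclic extensions of degree `p ^ a` with compatible
generators (`exists_tower`).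
-/

set_option autoImplicit false

universe u

open Polynomial IntermediateField

namespace Groth.Agent.Etbc.H231.CycloTower

/-- Lifting the exponent. -/
theorem lte {p : ℕ} (hp : p.Prime) {m : ℕ} (hm : 1 ≤ m) (h2 : p = 2 → 2 ≤ m) {u : ℤ}
    (h : (p : ℤ) ^ m ∣ u - 1) (h' : ¬ (p : ℤ) ^ (m + 1) ∣ u - 1) (k a : ℕ) :
    (p : ℤ) ^ (m + a) ∣ u ^ k - 1 ↔ p ^ a ∣ k := by
  have hpZ : Prime (p : ℤ) := Nat.prime_iff_prime_int.mp hp
  have hmul : emultiplicity (p : ℤ) (u - 1) = m := emultiplicity_eq_coe.mpr ⟨h, h'⟩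
  have hpu : (p : ℤ) ∣ u - 1 := (dvd_pow_self _ (by omega)).trans h
  have hnu : ¬ (p : ℤ) ∣ u := by
    intro hu
    have : (p : ℤ) ∣ 1 := by
      have := dvd_sub hu hpu
      simpa using this
    exact hpZ.not_unit (isUnit_of_dvd_one this)
  have key : emultiplicity (p : ℤ) (u ^ k - 1) = m + emultiplicity p k := by
    rcases hp.eq_two_or_odd' with rfl | hodd
    · have h4 : (4 : ℤ) ∣ u - 1 := by
        have : ((2 : ℕ) : ℤ) ^ 2 ∣ u - 1 := (pow_dvd_pow _ (h2 rfl)).trans h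
        simpa using this
      have := Int.two_pow_sub_pow' (x := u) (y := 1) k h4 (by simpa using hnu)
      rw [one_pow] at this
      have h5 : emultiplicity (2 : ℤ) (k : ℤ) = emultiplicity 2 k := by
        have := Int.natCast_emultiplicity 2 k
        simpa using this
      rw [Nat.cast_ofNat] at hmul ⊢
      rw [this, hmul, h5]
    · have := Int.emultiplicity_pow_sub_pow hp hodd (x := u) (y := 1) (by simpa using hpu) hnu k
      rw [one_pow] at this
      rw [this, hmul]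
  rw [pow_dvd_iff_le_emultiplicity, key, pow_dvd_iff_le_emultiplicity, Nat.cast_add]
  exact ENat.add_le_add_iff_left (ENat.coe_ne_top m)

section

variable {K L : Type u} [Field K] [Field L] [Algebra K L] {p : ℕ}

/-- A compatible system of primitive roots above a given one. -/
theorem exists_system (hp : p.Prime) (hroots : ∀ n : ℕ, ∃ ζ : L, IsPrimitiveRoot ζ (p ^ n))
    {m : ℕ} (hm : 1 ≤ m) {ζ : L} (hζ : IsPrimitiveRoot ζ (p ^ m)) :
    ∃ z : ℕ → L, z 0 = ζ ∧ (∀ a, z (a + 1) ^ p = z a) ∧ ∀ a, IsPrimitiveRoot (z a) (p ^ (m + a)) := by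
  have step : ∀ a : ℕ, ∀ x : L, IsPrimitiveRoot x (p ^ (m + a)) →
      ∃ y : L, y ^ p = x ∧ IsPrimitiveRoot y (p ^ (m + (a + 1))) := by
    intro a x hx
    obtain ⟨w, hw⟩ := hroots (m + (a + 1))
    have hpos : 0 < p ^ (m + (a + 1)) := pow_pos hp.pos _
    have hwp : IsPrimitiveRoot (w ^ p) (p ^ (m + a)) := hw.pow hpos (by rw [← add_assoc, pow_succ']) 
    have : NeZero (p ^ (m + a)) := ⟨(pow_pos hp.pos _).ne'⟩
    obtain ⟨k, -, hcop, hk⟩ := (hwp.isPrimitiveRoot_iff).mp hx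
    refine ⟨w ^ k, ?_, hw.pow_of_coprime k ?_⟩
    · rw [← hk, ← pow_mul, ← pow_mul, mul_comm]
    · rw [Nat.coprime_pow_right_iff (by omega)]
      rwa [Nat.coprime_pow_right_iff (by omega)] at hcop
  choose! g hg1 hg2 using step
  let z : ℕ → L := fun a => Nat.rec ζ (fun a x => g a x) a
  have hprim : ∀ a, IsPrimitiveRoot (z a) (p ^ (m + a)) := by
    intro a
    induction a with
    | zero => exact hζ
    | succ a ih => exact hg2 a _ ih
  exact ⟨z, rfl, fun a => hg1 a _ (hprim a), hprim⟩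

/-- If all the roots of unity of `p`-power order are in `K` then `K = K(μ_{p^∞})`. -/
theorem bijective_of_forall (hp : p.Prime) (hK : ∀ n : ℕ, ∃ ζ : K, IsPrimitiveRoot ζ (p ^ n))
    (hgen : IntermediateField.adjoin K {z : L | ∃ n : ℕ, z ^ (p ^ n) = 1} = ⊤) :
    Function.Bijective (algebraMap K L) := by
  refine ⟨(algebraMap K L).injective, fun x => ?_⟩
  have hx : x ∈ IntermediateField.adjoin K {z : L | ∃ n : ℕ, z ^ (p ^ n) = 1} := by
    rw [hgen]
    trivial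
  have hle : IntermediateField.adjoin K {z : L | ∃ n : ℕ, z ^ (p ^ n) = 1} ≤ ⊥ := by
    rw [IntermediateField.adjoin_le_iff]
    rintro z ⟨n, hn⟩
    obtain ⟨ζ, hζ⟩ := hK n
    have : NeZero (p ^ n) := ⟨(pow_pos hp.pos _).ne'⟩
    obtain ⟨k, -, rfl⟩ := (hζ.map_of_injective (algebraMap K L).injective).eq_pow_of_pow_eq_one hn
    exact pow_mem (IntermediateField.algebraMap_mem _ _) k
  exact IntermediateField.mem_bot.mp (hle hx)

end

section tower

variable {K L : Type u} [Field K] [Field L] [Algebra K L] {p : ℕ} {m : ℕ} {ζ : K} {z : ℕ → L}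

theorem pow_sub (hz : ∀ a, z (a + 1) ^ p = z a) {a b : ℕ} (h : a ≤ b) : z b ^ p ^ (b - a) = z a := by
  obtain ⟨c, rfl⟩ := Nat.exists_eq_add_of_le h
  rw [Nat.add_sub_cancel_left]
  clear h
  induction c with
  | zero => simp
  | succ c ih => rw [pow_succ', pow_mul, ← Nat.add_assoc, hz, ih]

theorem pow_eq (h0 : z 0 = algebraMap K L ζ) (hz : ∀ a, z (a + 1) ^ p = z a) (a : ℕ) :
    z a ^ p ^ a = algebraMap K L ζ := by
  have := pow_sub hz (Nat.zero_le a)
  rwa [Nat.sub_zero, h0] at this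

theorem adjoin_mono (hz : ∀ a, z (a + 1) ^ p = z a) : Monotone fun a => K⟮z a⟯ := by
  intro a b hab
  simp only [adjoin_le_iff, Set.singleton_subset_iff]
  rw [← pow_sub hz hab]
  exact pow_mem (mem_adjoin_simple_self K (z b)) _

/-- The action of `σ` on `z a`. -/
theorem exists_exponent (hp : p.Prime) (h0 : z 0 = algebraMap K L ζ) (hz : ∀ a, z (a + 1) ^ p = z a)
    (hprim : ∀ a, IsPrimitiveRoot (z a) (p ^ (m + a))) (σ : L ≃ₐ[K] L) (hσ : σ (z 1) ≠ z 1) (a : ℕ) :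
    ∃ u : ℕ, σ (z a) = z a ^ u ∧ (p : ℤ) ^ m ∣ (u : ℤ) - 1 ∧ ¬ (p : ℤ) ^ (m + 1) ∣ (u : ℤ) - 1 := by
  have : NeZero (p ^ (m + (a + 1))) := ⟨(pow_pos hp.pos _).ne'⟩
  have h1 : σ (z (a + 1)) ^ p ^ (m + (a + 1)) = 1 := by
    rw [← map_pow, (hprim (a + 1)).pow_eq_one, map_one]
  obtain ⟨u, -, hu⟩ := (hprim (a + 1)).eq_pow_of_pow_eq_one h1
  -- the criterion
  have key : ∀ c ≤ a + 1, (σ (z c) = z c ^ u) := by
    intro c hc
    rw [← pow_sub hz hc, map_pow, ← hu, ← pow_mul, ← pow_mul, mul_comm]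
  have key2 : ∀ c ≤ a + 1, (σ (z c) = z c ↔ (p : ℤ) ^ (m + c) ∣ (u : ℤ) - 1) := by
    intro c hc
    have hne : z c ≠ 0 := (hprim c).ne_zero (pow_pos hp.pos _).ne'
    rw [key c hc]
    have h3 : z c ^ u = z c ↔ z c ^ ((u : ℤ) - 1) = 1 := by
      rw [zpow_sub_one₀ hne, zpow_natCast, mul_inv_eq_one₀ hne]
    rw [h3, (hprim c).zpow_eq_one_iff_dvd, Nat.cast_pow]
  refine ⟨u, key a (Nat.le_succ a), ?_, ?_⟩
  · have := (key2 0 (Nat.zero_le _)).mp (by rw [h0, AlgEquiv.commutes])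
    simpa using this
  · intro hcon
    exact hσ ((key2 1 (by omega)).mpr hcon)

theorem iterate_eq_iff (hp : p.Prime) (hm : 1 ≤ m) (h2 : p = 2 → 2 ≤ m)
    (h0 : z 0 = algebraMap K L ζ) (hz : ∀ a, z (a + 1) ^ p = z a)
    (hprim : ∀ a, IsPrimitiveRoot (z a) (p ^ (m + a))) (σ : L ≃ₐ[K] L) (hσ : σ (z 1) ≠ z 1) (a k : ℕ) :
    (σ ^ k) (z a) = z a ↔ p ^ a ∣ k := by
  obtain ⟨u, hu, hu1, hu2⟩ := exists_exponent hp h0 hz hprim σ hσ a
  have h3 : (σ ^ k) (z a) = z a ^ (u ^ k) := by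
    clear hu1 hu2
    induction k with
    | zero => simp
    | succ k ih => rw [pow_succ', AlgEquiv.mul_apply, ih, map_pow, hu, ← pow_mul, pow_succ']
  have hne : z a ≠ 0 := (hprim a).ne_zero (pow_pos hp.pos _).ne'
  have h4 : z a ^ (u ^ k) = z a ↔ z a ^ (((u : ℤ) ^ k) - 1) = 1 := by
    rw [zpow_sub_one₀ hne, mul_inv_eq_one₀ hne, ← Nat.cast_pow, zpow_natCast]
  rw [h3, h4, (hprim a).zpow_eq_one_iff_dvd, Nat.cast_pow]
  exact lte hp hm h2 hu1 hu2 k a

theorem iterate_injOn (hp : p.Prime) (hm : 1 ≤ m) (h2 : p = 2 → 2 ≤ m)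
    (h0 : z 0 = algebraMap K L ζ) (hz : ∀ a, z (a + 1) ^ p = z a)
    (hprim : ∀ a, IsPrimitiveRoot (z a) (p ^ (m + a))) (σ : L ≃ₐ[K] L) (hσ : σ (z 1) ≠ z 1) (a : ℕ) :
    Set.InjOn (fun k : ℕ => (σ ^ k) (z a)) (Finset.range (p ^ a) : Set ℕ) := by
  have main : ∀ i j : ℕ, i ≤ j → j < p ^ a → (σ ^ i) (z a) = (σ ^ j) (z a) → i = j := by
    intro i j hij hj h
    obtain ⟨c, rfl⟩ := Nat.exists_eq_add_of_le hij
    rw [pow_add, AlgEquiv.mul_apply] at h
    have h3 := (σ ^ i).injective h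
    have h4 := (iterate_eq_iff hp hm h2 h0 hz hprim σ hσ a c).mp h3.symm
    rcases Nat.eq_zero_or_pos c with rfl | hc
    · rfl
    · exact absurd (Nat.le_of_dvd hc h4) (by omega)
  intro i hi j hj h
  rw [Finset.coe_range, Set.mem_Iio] at hi hj
  rcases le_total i j with h' | h'
  · exact main i j h' hj h
  · exact (main j i h' hi h.symm).symm

theorem isIntegral (hp : p.Prime) (h0 : z 0 = algebraMap K L ζ) (hz : ∀ a, z (a + 1) ^ p = z a) (a : ℕ) :
    IsIntegral K (z a) := by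
  refine IsIntegral.of_pow (pow_pos hp.pos a) ?_
  rw [pow_eq h0 hz]
  exact isIntegral_algebraMap

theorem minpoly_dvd (h0 : z 0 = algebraMap K L ζ) (hz : ∀ a, z (a + 1) ^ p = z a) (a : ℕ) :
    minpoly K (z a) ∣ X ^ p ^ a - C ζ := by
  apply minpoly.dvd
  simp [pow_eq h0 hz]

open Classical in
/-- The conjugates of `z a` are the `σ ^ k (z a)`, `k < p ^ a`. -/
theorem roots_eq (hp : p.Prime) (hm : 1 ≤ m) (h2 : p = 2 → 2 ≤ m)
    (h0 : z 0 = algebraMap K L ζ) (hz : ∀ a, z (a + 1) ^ p = z a)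
    (hprim : ∀ a, IsPrimitiveRoot (z a) (p ^ (m + a))) (σ : L ≃ₐ[K] L) (hσ : σ (z 1) ≠ z 1) (a : ℕ) :
    (minpoly K (z a)).natDegree = p ^ a ∧
      ∀ x : L, aeval x (minpoly K (z a)) = 0 → ∃ k : ℕ, x = (σ ^ k) (z a) := by
  have hint := isIntegral hp h0 hz a
  let S : Finset L := (Finset.range (p ^ a)).image (fun k : ℕ => (σ ^ k) (z a))
  have hS : S.card = p ^ a := by
    rw [Finset.card_image_of_injOn (iterate_injOn hp hm h2 h0 hz hprim σ hσ a), Finset.card_range]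
  let R : Finset L := ((minpoly K (z a)).aroots L).toFinset
  have hne : minpoly K (z a) ≠ 0 := minpoly.ne_zero hint
  have hSR : S ⊆ R := by
    intro x hx
    obtain ⟨k, -, rfl⟩ := Finset.mem_image.mp hx
    rw [Multiset.mem_toFinset, mem_aroots]
    refine ⟨hne, ?_⟩
    change aeval ((σ ^ k) (z a)) (minpoly K (z a)) = 0
    rw [← AlgEquiv.coe_algHom, aeval_algHom_apply, minpoly.aeval, map_zero]
  have hR : R.card ≤ (minpoly K (z a)).natDegree := by
    refine (Multiset.toFinset_card_le _).trans ?_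
    refine (card_roots' _).trans ?_
    rw [natDegree_map]
  have hdeg : (minpoly K (z a)).natDegree ≤ p ^ a := by
    have := natDegree_le_of_dvd (minpoly_dvd h0 hz a) (monic_X_pow_sub_C _ (pow_pos hp.pos a).ne').ne_zero
    rwa [natDegree_X_pow_sub_C] at this
  have hle : S.card ≤ R.card := Finset.card_le_card hSR
  refine ⟨by omega, fun x hx => ?_⟩
  have hEq : S = R := Finset.eq_of_subset_of_card_le hSR (by omega)
  have hxR : x ∈ R := by
    rw [Multiset.mem_toFinset, mem_aroots]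
    exact ⟨hne, hx⟩
  rw [← hEq] at hxR
  obtain ⟨k, -, hk⟩ := Finset.mem_image.mp hxR
  exact ⟨k, hk.symm⟩

end tower

/-- The cyclotomic `p`-tower. -/
theorem exists_tower (p : ℕ) [Fact p.Prime] (K L : Type u) [Field K] [CharZero K] [Field L] [Algebra K L]
    (hprim : ∃ ζ : K, IsPrimitiveRoot ζ p) (h4 : ∃ i : K, i ^ 2 = -1)
    (hroots : ∀ n : ℕ, ∃ ζ : L, IsPrimitiveRoot ζ (p ^ n))
    (hgen : IntermediateField.adjoin K {z : L | ∃ n : ℕ, z ^ (p ^ n) = 1} = ⊤)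
    (hK : ¬ ∀ n : ℕ, ∃ ζ : K, IsPrimitiveRoot ζ (p ^ n)) :
    ∃ (_ : Algebra.IsSeparable K L) (E : ℕ → IntermediateField K L) (σ : L ≃ₐ[K] L),
      Monotone E ∧ (∀ x : L, ∃ a, x ∈ E a) ∧ (∀ a, FiniteDimensional K (E a)) ∧
      (∀ a, IsGalois K (E a)) ∧ (∀ a, Module.finrank K (E a) = p ^ a) ∧
      (∀ a, ∀ x ∈ E a, σ x ∈ E a) ∧
      (∀ a (g : E a ≃ₐ[K] E a), ∃ k : ℕ, ∀ x : E a, ((g x : E a) : L) = (σ ^ k) (x : L)) := by
  have hp : p.Prime := Fact.out
  -- `L` is Galois over `K`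
  let S : Set ℕ := {n | ∃ k : ℕ, n = p ^ k}
  have hcyc : IsCyclotomicExtension S K (IntermediateField.adjoin K {b : L | ∃ n ∈ S, n ≠ 0 ∧ b ^ n = 1}) := by
    apply IntermediateField.isCyclotomicExtension_adjoin_of_exists_isPrimitiveRoot
    rintro _ ⟨k, rfl⟩ -
    exact hroots k
  have hset : {b : L | ∃ n ∈ S, n ≠ 0 ∧ b ^ n = 1} = {z : L | ∃ n : ℕ, z ^ (p ^ n) = 1} := by
    ext b
    constructor
    · rintro ⟨_, ⟨k, rfl⟩, -, h⟩
      exact ⟨k, h⟩
    · rintro ⟨k, h⟩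
      exact ⟨_, ⟨k, rfl⟩, (pow_pos hp.pos k).ne', h⟩
  rw [hset, hgen] at hcyc
  have hgalTop : IsGalois K (⊤ : IntermediateField K L) := IsCyclotomicExtension.isGalois S K _
  have hgal : IsGalois K L := IsGalois.of_algEquiv IntermediateField.topEquiv
  -- the level `m`
  obtain ⟨m, hm, ⟨ζ, hζ⟩, hmax⟩ : ∃ m : ℕ, 1 ≤ m ∧ (∃ ζ : K, IsPrimitiveRoot ζ (p ^ m)) ∧
      ¬ ∃ ζ : K, IsPrimitiveRoot ζ (p ^ (m + 1)) := by
    classical
    push_neg at hK
    have hK' : ∃ n : ℕ, ¬ ∃ ζ : K, IsPrimitiveRoot ζ (p ^ n) := by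
      obtain ⟨n, hn⟩ := hK
      exact ⟨n, fun ⟨ζ, hζ⟩ => hn ζ hζ⟩
    have hN := Nat.find_spec hK'
    have hmin := fun {k : ℕ} => Nat.find_min hK' (m := k)
    have h0 : Nat.find hK' ≠ 0 := by
      intro h
      rw [h] at hN
      exact hN ⟨1, by simp⟩
    have h1 : Nat.find hK' ≠ 1 := by
      intro h
      rw [h] at hN
      exact hN (by simpa using hprim)
    refine ⟨Nat.find hK' - 1, by omega, ?_, ?_⟩
    · have := hmin (k := Nat.find hK' - 1) (by omega)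
      rwa [not_not] at this
    · rwa [show Nat.find hK' - 1 + 1 = Nat.find hK' by omega]
  have h2 : p = 2 → 2 ≤ m := by
    rintro rfl
    by_contra hlt
    obtain rfl : m = 1 := by omega
    obtain ⟨i, hi⟩ := h4
    apply hmax
    refine ⟨i, ?_⟩
    have hi4 : i ^ 4 = 1 := by
      have : i ^ 4 = (i ^ 2) ^ 2 := by ring
      rw [this, hi]
      ring
    have hi2 : ¬ i ^ 2 = 1 := by
      rw [hi]
      intro h
      have h3 : (2 : K) = 0 := by linear_combination -h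
      exact two_ne_zero h3
    have := IsPrimitiveRoot.orderOf i
    have ho : orderOf i = 2 ^ (1 + 1) := orderOf_eq_prime_pow (by simpa using hi2) (by simpa using hi4)
    rwa [ho] at this
  obtain ⟨z, h0, hz, hzp⟩ := exists_system (L := L) hp hroots hm
    (hζ.map_of_injective (algebraMap K L).injective)
  -- `σ`
  have hz1 : z 1 ∉ Set.range (algebraMap K L) := by
    rintro ⟨y, hy⟩
    apply hmax
    refine ⟨y, ?_⟩
    have := hzp 1
    rw [← hy] at this
    exact this.of_map_of_injective (algebraMap K L).injective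
  obtain ⟨σ, hσ⟩ : ∃ σ : L ≃ₐ[K] L, σ (z 1) ≠ z 1 := by
    by_contra hcon
    push_neg at hcon
    exact hz1 ((InfiniteGalois.mem_range_algebraMap_iff_fixed (z 1)).mpr hcon)
  have hroots' := roots_eq hp hm h2 h0 hz hzp σ hσ
  have hint := isIntegral hp h0 hz
  have hfin : ∀ a, Module.finrank K K⟮z a⟯ = p ^ a := fun a => by
    rw [adjoin.finrank (hint a), (hroots' a).1]
  refine ⟨inferInstance, fun a => K⟮z a⟯, σ, adjoin_mono hz, ?_, fun a => adjoin.finiteDimensional (hint a),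
    ?_, hfin, ?_, ?_⟩
  · -- exhaustion
    have hle : IntermediateField.adjoin K {z : L | ∃ n : ℕ, z ^ (p ^ n) = 1} ≤ ⨆ a, K⟮z a⟯ := by
      rw [IntermediateField.adjoin_le_iff]
      rintro w ⟨n, hn⟩
      have : NeZero (p ^ (m + n)) := ⟨(pow_pos hp.pos _).ne'⟩
      obtain ⟨k, -, rfl⟩ := (hzp n).eq_pow_of_pow_eq_one
        (show w ^ p ^ (m + n) = 1 by rw [add_comm, pow_add, pow_mul, hn, one_pow])
      exact pow_mem ((le_iSup (fun a => K⟮z a⟯) n) (mem_adjoin_simple_self K (z n))) k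
    intro x
    have hx : x ∈ (⨆ a, K⟮z a⟯ : IntermediateField K L) := by
      apply hle
      rw [hgen]
      trivial
    rw [← SetLike.mem_coe, coe_iSup_of_directed (adjoin_mono (K := K) hz).directed_le, Set.mem_iUnion] at hx
    exact hx
  · intro a
    have : NeZero (p ^ (m + a)) := ⟨(pow_pos hp.pos _).ne'⟩
    have : IsCyclotomicExtension {p ^ (m + a)} K K⟮z a⟯ :=
      IsPrimitiveRoot.intermediateField_adjoin_isCyclotomicExtension K (hzp a)
    exact IsCyclotomicExtension.isGalois {p ^ (m + a)} K _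
  · intro a x hx
    have h3 : K⟮z a⟯ ≤ (K⟮z a⟯).comap (σ : L →ₐ[K] L) := by
      rw [adjoin_le_iff, Set.singleton_subset_iff]
      change σ (z a) ∈ K⟮z a⟯
      obtain ⟨u, hu, -⟩ := exists_exponent hp h0 hz hzp σ hσ a
      rw [hu]
      exact pow_mem (mem_adjoin_simple_self K (z a)) u
    exact h3 hx
  · intro a g
    let y : K⟮z a⟯ := AdjoinSimple.gen K (z a)
    have hy : (y : L) = z a := AdjoinSimple.coe_gen K (z a)
    have hroot : aeval ((g y : K⟮z a⟯) : L) (minpoly K (z a)) = 0 := by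
      have h3 : ((g y : K⟮z a⟯) : L) = ((K⟮z a⟯.val).comp (g : K⟮z a⟯ →ₐ[K] K⟮z a⟯)) y := rfl
      have h4 : minpoly K (z a) = minpoly K y := (minpoly_gen K (z a)).symm
      rw [h3, aeval_algHom_apply, h4, minpoly.aeval, map_zero]
    obtain ⟨k, hk⟩ := (hroots' a).2 _ hroot
    refine ⟨k, ?_⟩
    have h8 : (K⟮z a⟯.val).comp (g : K⟮z a⟯ →ₐ[K] K⟮z a⟯) =
        ((σ ^ k : L ≃ₐ[K] L) : L →ₐ[K] L).comp K⟮z a⟯.val := by
      apply (adjoin.powerBasis (hint a)).algHom_ext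
      rw [adjoin.powerBasis_gen]
      change ((g y : K⟮z a⟯) : L) = (σ ^ k) (y : L)
      rw [hy, hk]
    intro x
    exact congrArg (fun f : K⟮z a⟯ →ₐ[K] L => f x) h8

end Groth.Agent.Etbc.H231.CycloTower
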