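import Groth.Agent.Etbc.H231.CycTower
import Groth.Agent.Etbc.H231.CycloTower

/-!
# `cd_p(K) ≤ cd_p(K(μ_{p^∞})) + 1`
-/

set_option autoImplicit false

universe u

open CategoryTheory CategoryTheory.Limits AlgebraicGeometry

namespace Groth.Agent.Etbc.H231.CycCd

/-- Let `K` be a field of characteristic zero containing a primitive `p`-th root of unity and a square root of
`-1`, and `Kinf = K(μ_{p^∞})`. Then `cd_p(K) ≤ cd_p(Kinf) + 1`. -/
theorem cohDimLEAt_succ_of_cyclotomic (p : ℕ) [Fact p.Prime] (d : ℕ) (K Kinf : Type u) [Field K] [CharZero K]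
    [Field Kinf] [Algebra K Kinf]
    (hprim : ∃ ζ : K, IsPrimitiveRoot ζ p) (h4 : ∃ i : K, i ^ 2 = -1)
    (hroots : ∀ n : ℕ, ∃ ζ : Kinf, IsPrimitiveRoot ζ (p ^ n))
    (hgen : IntermediateField.adjoin K {z : Kinf | ∃ n : ℕ, z ^ (p ^ n) = 1} = ⊤)
    (hcd : Dix.CohDimLEAt (Spec (CommRingCat.of Kinf)) p d) :
    Dix.CohDimLEAt (Spec (CommRingCat.of K)) p (d + 1) := by
  have hp : p.Prime := Fact.out
  by_cases hK : ∀ n : ℕ, ∃ ζ : K, IsPrimitiveRoot ζ (p ^ n)
  · let e : Kinf ≃+* K :=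
      (RingEquiv.ofBijective (algebraMap K Kinf) (CycloTower.bijective_of_forall hp hK hgen)).symm
    have h := Groth.Agent.Etbc.H205.AlgExt.cohDimLEAt_of_ringEquiv e hp.ne_zero d hcd
    intro F hF i hi
    exact h F hF i (by omega)
  · obtain ⟨hsep, E, σ, hmono, hun, hfd, hgal, hrk, hE, hgen'⟩ :=
      CycloTower.exists_tower p K Kinf hprim h4 hroots hgen hK
    exact CycTower.cohDimLEAt_succ_of_tower E hmono σ hE hfd hgal hrk hgen' hun hp.pos d hcd

end Groth.Agent.Etbc.H231.CycCd
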