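import Groth.Prelude.Def_Dix
import Groth.Agent.Sga4h.CycField
import Groth.Agent.CurvesA.EtFieldTors
import Groth.Agent.Etbc.H205.AlgExt

/-!
# `ℓ`-cohomological dimension and procyclic covers of fields

* `subsingleton_H_of_primary`: reduction of `ℓ`-primary torsion sheaves on `Spec K` to sheaves killed by a
  power of `ℓ`, for a fixed degree `q`;
* `cohDimLEAt_succ_of_tower`: if `L/K` is the union of a tower `E a / K` of cyclic extensions of degree `ℓ ^ a`
  (with compatible generators) then `cd_ℓ(K) ≤ cd_ℓ(L) + 1`.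
-/

set_option autoImplicit false
set_option backward.isDefEq.respectTransparency.types false
universe u

open CategoryTheory CategoryTheory.Limits AlgebraicGeometry Opposite
open Groth.Agent.CurvesA.EtFieldObj Groth.Agent.CurvesA.EtFieldDesc Groth.Agent.CurvesA.EtFieldTr
open Groth.Agent.CurvesA.EtFieldFin Groth.Agent.CurvesA.ExtMid Groth.Agent.CurvesA.EtFieldTors

namespace Groth.Agent.Etbc.H231.CycTower

section Primary

variable {K : Type u} [Field K]

theorem pow_nsmul_of_primary {ℓ : ℕ} {F : EtCoh.Ab (Spec (CommRingCat.of K))}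
    (hF : Dix.IsPrimaryTorsion ℓ F) (E : Type u) [Field E] [Algebra K E]
    [FiniteDimensional K E] [Algebra.IsSeparable K E] (a : F.obj.obj (op (etObj K E))) :
    ∃ k : ℕ, (ℓ ^ k) • a = 0 := by
  let x : (etObj K E).left := (⟨⊥, Ideal.isPrime_bot⟩ : PrimeSpectrum E)
  obtain ⟨V, g, ⟨v, -⟩, k, h⟩ := hF (etObj K E) a x
  have : Nonempty V.left := ⟨v⟩
  refine ⟨k, map_injective F g ?_⟩
  rw [map_nsmul, h, map_zero]

theorem isPrimaryTorsion_of_mono {ℓ : ℕ} {F G : EtCoh.Ab (Spec (CommRingCat.of K))} (i : F ⟶ G) [Mono i]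
    (h : Dix.IsPrimaryTorsion ℓ G) : Dix.IsPrimaryTorsion ℓ F := by
  intro U s x
  obtain ⟨V, g, hv, k, h1⟩ := h U (i.hom.app (op U) s) x
  refine ⟨V, g, hv, k, app_injective i _ ?_⟩
  rw [map_nsmul, nat_apply, h1, map_zero]

/-- A finite split `ℓ`-primary torsion sheaf is killed by a power of `ℓ`. -/
theorem exists_killedBy_pow {ℓ : ℕ} {F : EtCoh.Ab (Spec (CommRingCat.of K))} (h : Fin' F)
    (hF : Dix.IsPrimaryTorsion ℓ F) : ∃ k : ℕ, EtCoh.KilledBy (ℓ ^ k) F := by
  obtain ⟨N, _, _, _, _, h1, h2⟩ := h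
  obtain ⟨S, hS⟩ := h2
  -- a bound for the generators
  have h3 : ∃ k : ℕ, ∀ s ∈ S, (ℓ ^ k) • s = 0 := by
    classical
    choose κ hκ using fun a => pow_nsmul_of_primary hF N a
    refine ⟨∑ s ∈ S, κ s, fun s hs => ?_⟩
    obtain ⟨c, hc⟩ := Nat.exists_eq_add_of_le (Finset.single_le_sum (f := fun s => κ s)
      (fun _ _ => Nat.zero_le _) hs)
    rw [hc, add_comm, pow_add, mul_smul, hκ s, smul_zero]
  obtain ⟨k, hk⟩ := h3
  have h4 : ∀ a : F.obj.obj (op (etObj K N)), (ℓ ^ k) • a = 0 := by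
    intro a
    have ha : a ∈ Submodule.span ℤ (S : Set (F.obj.obj (op (etObj K N)))) := by rw [hS]; trivial
    induction ha using Submodule.span_induction with
    | mem x hx => exact hk x hx
    | zero => exact smul_zero _
    | add x y _ _ hx hy => rw [smul_add, hx, hy, add_zero]
    | smul r x _ hx => rw [smul_comm, hx, smul_zero]
  refine ⟨k, ?_⟩
  intro U s
  refine sect_ext fun N' _ _ _ _ b => ?_
  obtain ⟨M, _, _, _, _, ⟨φ⟩, ⟨ψ⟩⟩ := exists_galois (K := K) N' N
  refine map_injective F (etMap φ) ?_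
  obtain ⟨a, ha⟩ := h1 M (etMap ψ) (F.obj.map (etMap φ).op (F.obj.map b.op s))
  rw [map_nsmul, map_nsmul, ← ha, map_zero, map_zero, ← map_nsmul, h4, map_zero]

/-- `ℓ`-primary torsion sheaves: reduction to sheaves killed by a power of `ℓ`. -/
theorem subsingleton_H_of_primary (ℓ q : ℕ)
    (h : ∀ (k : ℕ) (F : EtCoh.Ab (Spec (CommRingCat.of K))), EtCoh.KilledBy (ℓ ^ k) F →
      Subsingleton (EtCoh.H (Spec (CommRingCat.of K)) F q))
    (F : EtCoh.Ab (Spec (CommRingCat.of K))) (hF : Dix.IsPrimaryTorsion ℓ F) :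
    Subsingleton (EtCoh.H (Spec (CommRingCat.of K)) F q) := by
  refine Groth.Agent.CurvesA.EtFieldH.subsingleton_H F q fun x => ?_
  obtain ⟨F', i, x', hF', hi, rfl⟩ := exists_fin_sub (fin_ZL K) x
  obtain ⟨k, hk⟩ := exists_killedBy_pow hF' (isPrimaryTorsion_of_mono i hF)
  have h1 := h k F' hk
  have h2 : x' = 0 := (Groth.Agent.CurvesA.EtFieldH.HEquiv F' q).symm.injective (Subsingleton.elim _ _)
  rw [h2, Abelian.Ext.zero_comp]

end Primary

/-- The middle term of a short exact sequence: vanishing of `H^q` of the first term. -/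
theorem subsingleton_H_of_shortExact {X : Scheme.{u}} {S : ShortComplex (EtCoh.Ab X)} (hS : S.ShortExact)
    (q : ℕ) (h2 : Subsingleton (EtCoh.H X S.X₂ (q + 1))) (h3 : Subsingleton (EtCoh.H X S.X₃ q)) :
    Subsingleton (EtCoh.H X S.X₁ (q + 1)) := by
  refine subsingleton_of_forall_eq 0 fun x => ?_
  obtain ⟨y, hy⟩ := Abelian.Ext.covariant_sequence_exact₁ _ hS x (Subsingleton.elim (α := EtCoh.H X S.X₂ (q + 1)) _ _)
    (n₀ := q) rfl
  rw [← hy, Subsingleton.elim (α := EtCoh.H X S.X₃ q) y 0, Abelian.Ext.zero_comp]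

theorem isPrimaryTorsion_of_killedBy {X : Scheme.{u}} {ℓ k : ℕ} {F : EtCoh.Ab X} (h : EtCoh.KilledBy (ℓ ^ k) F) :
    Dix.IsPrimaryTorsion ℓ F := fun U s x => ⟨U, 𝟙 U, ⟨x, rfl⟩, k, by
      rw [h]⟩

section Tower

variable {K L : Type u} [Field K] [Field L] [Algebra K L] (E : ℕ → IntermediateField K L) (hmono : Monotone E)
  (σ : L ≃ₐ[K] L) (hE : ∀ a, ∀ x ∈ E a, σ x ∈ E a) {p : ℕ} (hfd : ∀ a, FiniteDimensional K (E a))
  (hgal : ∀ a, IsGalois K (E a)) (hrk : ∀ a, Module.finrank K (E a) = p ^ a)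
  (hgen : ∀ a (g : E a ≃ₐ[K] E a), ∃ k : ℕ, ∀ x : E a, ((g x : E a) : L) = (σ ^ k) (x : L))
  (hun : ∀ x : L, ∃ a, x ∈ E a)

include hmono hE hfd hgal hrk hgen hun in
/-- **Towers of cyclic extensions of `p`-power degree raise `cd_p` by at most one.** -/
theorem cohDimLEAt_succ_of_tower [Algebra.IsSeparable K L] (hp : 0 < p) (d : ℕ)
    (hcd : Dix.CohDimLEAt (Spec (CommRingCat.of L)) p d) :
    Dix.CohDimLEAt (Spec (CommRingCat.of K)) p (d + 1) := by
  intro F hF q hq
  refine subsingleton_H_of_primary p q (fun k G hG => ?_) F hF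
  obtain ⟨q, rfl⟩ : ∃ q', q = q' + 1 := ⟨q - 1, by omega⟩
  let t : Spec (CommRingCat.of L) ⟶ Spec (CommRingCat.of K) := Sga4h.CycField.tt K L
  let D := Sga4h.CycField.cyc E hmono σ hE hfd hgal hrk hgen hun hp k
  have hse := Sga4h.SigmaSeq.shortExact D G hG
  have hL : EtCoh.KilledBy (p ^ k) ((EtCoh.pull t).obj G) :=
    Groth.Agent.Etcore.Torsion.killedBy_pull (p ^ k) t G hG
  have hP : Dix.IsPrimaryTorsion p ((EtCoh.pull t).obj G) := isPrimaryTorsion_of_killedBy hL
  have hT : EtCoh.IsTorsion ((EtCoh.pull t).obj G) :=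
    Groth.Agent.Etbc.H205.AlgExt.isTorsion_of_isPrimaryTorsion hp.ne' hP
  have : Algebra.IsAlgebraic K L := inferInstance
  have key : ∀ q : ℕ, d < q → Subsingleton (EtCoh.H (Spec (CommRingCat.of K))
      ((EtCoh.push t).obj ((EtCoh.pull t).obj G)) q) := fun q hq =>
    (Groth.Agent.EtpbcA.CdExact.H_push_iff_of_isZero t _ (fun q =>
      Groth.Agent.EtpbcA.CdRel.relCohDimLE_zero K L _ hT (q + 1) (Nat.succ_pos q)) q).2
      (hcd _ hP q hq)
  exact subsingleton_H_of_shortExact hse q (key (q + 1) (by omega)) (key q (by omega))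

end Tower

end Groth.Agent.Etbc.H231.CycTower
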