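import Groth.Prelude.Def_EtAcyc
import Groth.Agent.EtpbcA.PullFLC
import Groth.Agent.Etbc.H231.AcycComp

/-!
# `0`-acyclic morphisms and composition (sheaves of sets)

* `isEquivalence_pushSh`, `isEquivalence_pullSh`: isomorphisms of schemes.
* `isIso_unit_iff`: all units `F ⟶ f_* f^* F` are isomorphisms iff `f^*` is fully faithful.
* `unit_comp_iff`: composition.
-/

set_option autoImplicit false
universe u
open CategoryTheory CategoryTheory.Limits AlgebraicGeometry Opposite

namespace Groth.Agent.Etbc.H231.ZeroAcycComp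

open EtDesc Groth.Agent.Etbc.H231.AcycComp

variable {X Y Z : Scheme.{u}}

/-- Direct image of sheaves of sets along the identity. -/
noncomputable def pushShId (X : Scheme.{u}) : pushSh (𝟙 X) ≅ 𝟭 (Sh X) :=
  Functor.sheafPushforwardContinuousId' (F'' := EtCoh.bc (𝟙 X))
    (Groth.Agent.EtpbcA.PullFLC.bcId X) (Type (u + 1)) X.smallEtaleTopology

/-- Transport of direct image along an equality of morphisms. -/
noncomputable def pushCongrSh {f f' : X ⟶ Y} (h : f = f') : pushSh f ≅ pushSh f' :=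
  eqToIso (by rw [h])

/-- Direct image along an isomorphism is an equivalence of categories. -/
noncomputable def pushShEquiv (e : X ≅ Y) : Sh X ≌ Sh Y :=
  CategoryTheory.Equivalence.mk (pushSh e.hom) (pushSh e.inv)
    ((pushShId X).symm ≪≫ pushCongrSh e.hom_inv_id.symm ≪≫ (pushCompSh e.inv e.hom).symm)
    (pushCompSh e.hom e.inv ≪≫ pushCongrSh e.inv_hom_id ≪≫ pushShId Y)

instance isEquivalence_pushSh (f : X ⟶ Y) [IsIso f] : (pushSh f).IsEquivalence :=
  inferInstanceAs (pushShEquiv (asIso f)).functor.IsEquivalence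

instance isEquivalence_pullSh (f : X ⟶ Y) [IsIso f] : (pullSh f).IsEquivalence :=
  (adjSh f).isEquivalence_left_of_isEquivalence_right

theorem isIso_unit_iff (f : X ⟶ Y) : (∀ F : Sh Y, IsIso ((adjSh f).unit.app F)) ↔
    (pullSh f).Full ∧ (pullSh f).Faithful := by
  constructor
  · intro h
    have h1 : ∀ F : Sh Y, IsIso ((adjSh f).unit.app F) := h
    have : IsIso (adjSh f).unit := NatIso.isIso_of_isIso_app _
    have h2 := (adjSh f).fullyFaithfulLOfIsIsoUnit
    exact ⟨h2.full, h2.faithful⟩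
  · rintro ⟨h1, h2⟩ F
    infer_instance

/-- If `f^*` is fully faithful, then `(f ≫ g)^*` is if and only if `g^*` is. -/
theorem fullyFaithful_comp_iff (f : X ⟶ Y) (g : Y ⟶ Z) (h : X ⟶ Z) (w : f ≫ g = h)
    (hf : (pullSh f).Full ∧ (pullSh f).Faithful) :
    (pullSh g).Full ∧ (pullSh g).Faithful ↔ (pullSh h).Full ∧ (pullSh h).Faithful := by
  subst w
  obtain ⟨_, _⟩ := hf
  constructor
  · rintro ⟨_, _⟩
    exact ⟨Functor.Full.of_iso (pullCompSh f g).symm, Functor.Faithful.of_iso (pullCompSh f g).symm⟩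
  · rintro ⟨_, _⟩
    exact ⟨Functor.Full.of_comp_faithful_iso (pullCompSh f g).symm,
      Functor.Faithful.of_comp_iso (pullCompSh f g).symm⟩

theorem unit_comp_iff (f : X ⟶ Y) (g : Y ⟶ Z) (h : X ⟶ Z) (w : f ≫ g = h)
    (hf : ∀ F : Sh Y, IsIso ((adjSh f).unit.app F)) :
    (∀ F : Sh Z, IsIso ((adjSh g).unit.app F)) ↔ ∀ F : Sh Z, IsIso ((adjSh h).unit.app F) := by
  rw [isIso_unit_iff] at hf ⊢
  rw [isIso_unit_iff]
  exact fullyFaithful_comp_iff f g h w hf

theorem isZeroAcyclic_comp_iff (g : X ⟶ Y) (h : Y ⟶ Z) (hg : EtAcyc.IsZeroAcyclic g) :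
    EtAcyc.IsZeroAcyclic h ↔ EtAcyc.IsZeroAcyclic (g ≫ h) := by
  refine forall_congr' fun W => ?_
  refine unit_comp_iff ((bcE g h W).hom ≫ EtAcyc.prj g ((EtCoh.bc h).obj W)) (EtAcyc.prj h W)
    (EtAcyc.prj (g ≫ h) W) (bcE_comp g h W) ?_
  refine (unit_comp_iff (bcE g h W).hom (EtAcyc.prj g ((EtCoh.bc h).obj W)) _ rfl ?_).1 (hg _)
  intro F
  infer_instance

end Groth.Agent.Etbc.H231.ZeroAcycComp
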